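import Groth.Agent.AcycConst.Crit
import Groth.Agent.CohCrit13.Main
import Groth.Agent.AcycCover.Detect
import Groth.Agent.EtBC.Devissage
import Groth.Agent.EtFound.AcyclicComp
import Groth.Agent.MorLib.WeightFlat
import Groth.Agent.UBC.Main
import Mathlib.Data.Nat.Factorization.Induction

/-!
# Acyclicity from surjectivity with constant coefficients
-/

set_option autoImplicit false
set_option linter.style.haveILetI false
universe u

open CategoryTheory CategoryTheory.Limits AlgebraicGeometry Opposite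

namespace Groth.Agent.AcycConst

open Groth.Agent.EtLimit Groth.Agent.EtFound

set_option backward.isDefEq.respectTransparency.types false
set_option maxHeartbeats 1000000

/-- surjectivity does not depend on the chosen product -/
theorem surjective_Hpull_of_iso {A A' B : Scheme.{u}} (g : A ⟶ B) (g' : A' ⟶ B) (e : A ⟶ A') [IsIso e]
    (he : e ≫ g' = g) [PreservesFiniteLimits (EtCoh.pull g)] [PreservesFiniteLimits (EtCoh.pull g')]
    (F : EtCoh.Ab B) (q : ℕ) (h : Function.Surjective (EtCore.Hpull g' F q)) :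
    Function.Surjective (EtCore.Hpull g F q) := by
  haveI := pull_preservesFiniteLimits e
  have key : (EtCore.Hpull g F q : _ → _) =
      (hmap ((θPull e g' g he).hom.app F) q ∘ EtCore.Hpull e ((EtCoh.pull g').obj F) q) ∘ EtCore.Hpull g' F q :=
    funext fun x => Hpull_comp e g' g he F q x
  rw [key]
  exact ((EtBC.hmap_bijective_of_isIso ((θPull e g' g he).hom.app F) q).comp
    (Hpull_bijective_of_isIso (k := e) _ q)).2.comp h

section killed

variable {X Y : Scheme.{u}} (h : X ⟶ Y) [PreservesFiniteLimits (EtCoh.pull h)] (n : ℕ)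

/-- the comparison in low degrees -/
def Comp (G : EtCoh.Ab Y) : Prop :=
  (∀ q, q ≤ n → Function.Bijective (EtCore.Hpull h G q)) ∧ Function.Injective (EtCore.Hpull h G (n + 1))

/-- primary decomposition of the coefficients -/
theorem comp_of_primePow (m : ℕ)
    (hp : ∀ p k : ℕ, p.Prime → p ^ k ∣ m → ∀ G : EtCoh.Ab Y, EtCoh.KilledBy (p ^ k) G → Comp h n G) :
    0 < m → ∀ G : EtCoh.Ab Y, EtCoh.KilledBy m G → Comp h n G := by
  induction m using Nat.recOnPosPrimePosCoprime with
  | prime_pow p k hpp hk => exact fun _ G hG => hp p k hpp dvd_rfl G hG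
  | zero => exact fun h0 => absurd h0 (Nat.lt_irrefl 0)
  | one =>
    refine fun _ G hG => hp 2 0 Nat.prime_two ?_ G ?_
    · rw [pow_zero]
    · rw [pow_zero]; exact hG
  | coprime a b ha hb hab iha ihb =>
    intro _ G hG
    rw [killedBy_iff_nsmul] at hG
    obtain ⟨c, hca, hcb⟩ := Nat.chineseRemainder hab 1 0
    obtain ⟨d, hdb, hda⟩ := Nat.chineseRemainder hab.symm 1 0
    obtain ⟨c', rfl⟩ : b ∣ c := Nat.modEq_zero_iff_dvd.1 hcb
    obtain ⟨d', rfl⟩ : a ∣ d := Nat.modEq_zero_iff_dvd.1 hda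
    have hsum : (b * c') • 𝟙 G + (a * d') • 𝟙 G = 𝟙 G := by
      rw [← add_nsmul]
      refine Eq.trans ?_ (one_nsmul (𝟙 G))
      refine nsmul_eq_nsmul_iff_modEq.2 (Nat.ModEq.of_dvd (addOrderOf_dvd_of_nsmul_eq_zero hG) ?_)
      refine (Nat.modEq_and_modEq_iff_modEq_mul hab).1 ⟨?_, ?_⟩
      · simpa using hca.add ((Nat.modEq_zero_iff_dvd.2 ⟨d', rfl⟩) : a * d' ≡ 0 [MOD a])
      · simpa using ((Nat.modEq_zero_iff_dvd.2 ⟨c', rfl⟩) : b * c' ≡ 0 [MOD b]).add hdb
    have hz : ∀ {x y : ℕ}, x * y = a * b → ∀ z : ℕ, ((y * z) • 𝟙 G) ≫ (x • 𝟙 G) = 0 := fun {x y} hxy z => by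
      rw [Preadditive.comp_nsmul, Category.comp_id, ← mul_nsmul', ← mul_assoc, hxy, mul_comm, mul_nsmul', hG,
        nsmul_zero]
    have hab' : b * a = a * b := mul_comm b a
    let A := kernel (a • 𝟙 G)
    let B := kernel (b • 𝟙 G)
    let ra : G ⟶ A := kernel.lift _ _ (hz (x := a) (y := b) rfl c')
    let rb : G ⟶ B := kernel.lift _ _ (hz (x := b) (y := a) hab' d')
    have hA : Comp h n A := iha (fun p k hpp hd => hp p k hpp (hd.trans (dvd_mul_right a b))) (by omega) A
      (EtBC.killedBy_kernel_nsmul _ _)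
    have hB : Comp h n B := ihb (fun p k hpp hd => hp p k hpp (hd.trans (dvd_mul_left b a))) (by omega) B
      (EtBC.killedBy_kernel_nsmul _ _)
    have hsplit : ∀ (q : ℕ) (x : EtCoh.H Y G q), x = hmap (kernel.ι (a • 𝟙 G)) q (hmap ra q x) +
        hmap (kernel.ι (b • 𝟙 G)) q (hmap rb q x) := fun q x => by
      rw [hmap_comp, hmap_comp, kernel.lift_ι, kernel.lift_ι]
      conv_lhs => rw [← CohCrit13.hmap_id q x, ← hsum]
      simpa using (CohCrit13.hmap_sum (Finset.univ : Finset (Fin 2)) ![(b * c') • 𝟙 G, (a * d') • 𝟙 G] q x).symm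
    have hinj : ∀ q, Function.Injective (EtCore.Hpull h A q) → Function.Injective (EtCore.Hpull h B q) →
        Function.Injective (EtCore.Hpull h G q) := fun q ia ib => by
      refine (injective_iff_map_eq_zero _).2 fun x hx => ?_
      have h1 : hmap ra q x = 0 := ia (by rw [map_zero, CohCrit13.Hpull_hmap, hx, map_zero])
      have h2 : hmap rb q x = 0 := ib (by rw [map_zero, CohCrit13.Hpull_hmap, hx, map_zero])
      rw [hsplit q x, h1, h2, map_zero, map_zero, add_zero]
    refine ⟨fun q hq => ⟨hinj q (hA.1 q hq).1 (hB.1 q hq).1, fun y => ?_⟩, hinj _ hA.2 hB.2⟩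
    obtain ⟨xa, hxa⟩ := (hA.1 q hq).2 (hmap ((EtCoh.pull h).map ra) q y)
    obtain ⟨xb, hxb⟩ := (hB.1 q hq).2 (hmap ((EtCoh.pull h).map rb) q y)
    refine ⟨hmap (kernel.ι (a • 𝟙 G)) q xa + hmap (kernel.ι (b • 𝟙 G)) q xb, ?_⟩
    rw [map_add, CohCrit13.Hpull_hmap, CohCrit13.Hpull_hmap, hxa, hxb, hmap_comp, hmap_comp, ← Functor.map_comp,
      ← Functor.map_comp, kernel.lift_ι, kernel.lift_ι]
    haveI : PreservesColimitsOfSize.{0, 0} (EtCoh.pull h) := (EtCoh.pullPushAdj h).leftAdjoint_preservesColimits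
    haveI : (EtCoh.pull h).Additive := Functor.additive_of_preserves_binary_products _
    refine Eq.trans ?_ (CohCrit13.hmap_id q y)
    rw [show (𝟙 ((EtCoh.pull h).obj G)) = (EtCoh.pull h).map ((b * c') • 𝟙 G) + (EtCoh.pull h).map ((a * d') • 𝟙 G) by
      rw [← Functor.map_add, hsum, CategoryTheory.Functor.map_id]]
    simpa using (CohCrit13.hmap_sum (Finset.univ : Finset (Fin 2))
      ![(EtCoh.pull h).map ((b * c') • 𝟙 G), (EtCoh.pull h).map ((a * d') • 𝟙 G)] q y)

end killed

variable {X Y : Scheme.{u}} (g : X ⟶ Y) [QuasiCompact g] [QuasiSeparated g] [Surjective g] (L : Set ℕ) (n : ℕ)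
  (H : ∀ (Y' : Scheme.{u}) (i : Y' ⟶ Y) [LocallyQuasiFinite i] [LocallyOfFiniteType i] (ℓ : ℕ), ℓ.Prime → ℓ ∈ L →
    ∀ (ν : ℕ), 1 ≤ ν → ∀ [PreservesFiniteLimits (EtCoh.pull (pullback.snd g i))] (q : ℕ), q ≤ n →
      Function.Surjective (EtCore.Hpull (pullback.snd g i) (EtCoh.const Y' (ZMod (ℓ ^ ν))) q))

include H in
/-- the comparison over an affine scheme, étale over an étale scheme of the base -/
theorem compN_affine (hL : ∃ ℓ ∈ L, ℓ.Prime) (V : Y.Etale) (W : V.left.Etale) (hW : IsAffine W.left) :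
    EtAcyc.CompN (pullback.fst W.hom (EtAcyc.prj g V)) L n := by
  intro G hG _
  haveI : AlgebraicGeometry.Etale V.hom := V.prop
  haveI : AlgebraicGeometry.Etale W.hom := W.prop
  haveI : QuasiCompact (EtAcyc.prj g V) := MorphismProperty.pullback_fst _ _ inferInstance
  haveI : QuasiSeparated (EtAcyc.prj g V) := MorphismProperty.pullback_fst _ _ inferInstance
  haveI : Surjective (EtAcyc.prj g V) := MorphismProperty.pullback_fst _ _ inferInstance
  let hb := pullback.fst W.hom (EtAcyc.prj g V)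
  haveI : QuasiCompact hb := MorphismProperty.pullback_fst _ _ inferInstance
  haveI : QuasiSeparated hb := MorphismProperty.pullback_fst _ _ inferInstance
  haveI : Surjective hb := MorphismProperty.pullback_fst _ _ inferInstance
  haveI : IsAffine W.left := hW
  haveI : CompactSpace ↥((𝟭 Scheme).obj W.left) := inferInstanceAs (CompactSpace ↥W.left)
  haveI : QuasiSeparatedSpace ↥((𝟭 Scheme).obj W.left) := inferInstanceAs (QuasiSeparatedSpace ↥W.left)
  haveI : CompactSpace ↥(pullback W.hom (EtAcyc.prj g V)) := QuasiCompact.compactSpace_of_compactSpace hb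
  haveI : QuasiSeparatedSpace ↥(pullback W.hom (EtAcyc.prj g V)) := quasiSeparatedSpace_of_quasiSeparated hb
  refine EtBC.compN_of_killed hb L n (fun m hm G hG => ?_) G hG
  refine comp_of_primePow hb n m (fun p k hpp hd G hG => ?_) hm.1 G hG
  obtain ⟨p, hpp, hpL, hG⟩ : ∃ p', p'.Prime ∧ p' ∈ L ∧ EtCoh.KilledBy (p' ^ k) G := by
    obtain hk | hk := Nat.eq_zero_or_pos k
    · obtain ⟨l, hlL, hl⟩ := hL
      exact ⟨l, hl, hlL, by simpa [hk] using hG⟩
    · exact ⟨p, hpp, hm.2 p hpp ((dvd_pow_self p hk.ne').trans hd), hG⟩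
  refine CohCrit13.comparison_criterion hb p hpp n ?_ G fun U s => ⟨k, hG U s⟩
  intro W' r _ _ _ ν
  haveI : Surjective (pullback.fst r hb) := MorphismProperty.pullback_fst _ _ inferInstance
  refine ⟨AcycCover.Hpull_zero_injective _ _, fun q hq => ?_⟩
  obtain hν | hν := Nat.eq_zero_or_pos ν
  · subst hν
    intro y
    refine ⟨0, ?_⟩
    rw [map_zero]
    have h0 : 𝟙 ((EtCoh.pull (pullback.fst r hb)).obj (EtCoh.const W' (ZMod (p ^ 0)))) = 0 := by
      haveI : PreservesColimitsOfSize.{0, 0} (EtCoh.pull (pullback.fst r hb)) :=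
        (EtCoh.pullPushAdj (pullback.fst r hb)).leftAdjoint_preservesColimits
      haveI : (EtCoh.pull (pullback.fst r hb)).Additive := Functor.additive_of_preserves_binary_products _
      rw [← CategoryTheory.Functor.map_id, ← one_nsmul (𝟙 (EtCoh.const W' (ZMod (p ^ 0)))),
        show (1 : ℕ) = p ^ 0 from (pow_zero p).symm, CohCrit13.nsmul_const_zmod, Functor.map_zero]
    rw [← CohCrit13.hmap_id q y, h0]
    exact (hmap_zero_map q y).symm
  haveI hlqf : ∀ {A B : Scheme.{u}} (f : A ⟶ B) [AlgebraicGeometry.Etale f], LocallyQuasiFinite f :=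
    fun f => MorLib.WT.locallyQuasiFinite_of_etale f
  haveI : LocallyQuasiFinite r := inferInstance
  haveI : LocallyQuasiFinite W.hom := hlqf _
  haveI : LocallyQuasiFinite V.hom := hlqf _
  let i : W' ⟶ Y := r ≫ W.hom ≫ V.hom
  haveI : LocallyQuasiFinite i := inferInstance
  have sq := ((IsPullback.of_hasPullback r hb).paste_vert
    ((IsPullback.of_hasPullback W.hom (EtAcyc.prj g V)).paste_vert (IsPullback.of_hasPullback V.hom g))).flip
  haveI := pull_preservesFiniteLimits (pullback.snd g i)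
  exact surjective_Hpull_of_iso (pullback.fst r hb) (pullback.snd g i) sq.isoPullback.hom sq.isoPullback_hom_snd
    _ q (H W' i p hpp hpL ν hν q hq)

include H in
/-- acyclicity from constant coefficients -/
theorem isAcyclicN_of_const (hL : ∃ ℓ ∈ L, ℓ.Prime) : EtAcyc.IsAcyclicN g L n := by
  refine (S3510.result g L n).2 fun V F hF => ?_
  exact good_of_cofinal (EtAcyc.prj g V) n F (fun W => IsAffine W.left) (fun U x => by
    obtain ⟨O, hO, hxO, -⟩ := exists_isAffineOpen_mem_and_subset (x := x) (U := (⊤ : U.left.Opens)) trivial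
    haveI : AlgebraicGeometry.Etale U.hom := U.prop
    let W : V.left.Etale := Scheme.Etale.mk (O.ι ≫ U.hom)
    exact ⟨W, MorphismProperty.Over.homMk O.ι rfl, ⟨x, hxO⟩, hO, rfl⟩)
    (fun W hW q hq => by
      intro _
      exact ((compN_affine g L n H hL V W hW) _ (isLTorsion_pull W.hom L hF)).1 q hq)

end Groth.Agent.AcycConst
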