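import Groth.Agent.EtFound.EdgeVanish
import Groth.Agent.EtFound.PullExt
import Groth.Agent.EtBC.CompNKilled
import Groth.Agent.S3510

/-!
# Comparison from a cofinal family of étale neighbourhoods
-/

set_option autoImplicit false
set_option linter.style.haveILetI false
universe u

open CategoryTheory CategoryTheory.Limits AlgebraicGeometry Opposite

namespace Groth.Agent.AcycConst

open Groth.Agent.EtLimit Groth.Agent.EtFound

set_option backward.isDefEq.respectTransparency.types false
set_option maxHeartbeats 2000000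

variable {X Y : Scheme.{u}} (g : X ⟶ Y) (n : ℕ) (F : EtCoh.Ab Y)

/-- the comparison on an étale scheme over the base, written with free sheaves -/
theorem bijective_free (W : Y.Etale) (q : ℕ) [PreservesFiniteLimits (EtCoh.pull g)]
    [PreservesFiniteLimits (EtCoh.pull (pullback.fst W.hom g))]
    (hb : Function.Bijective (EtCore.Hpull (pullback.fst W.hom g) ((EtCoh.pull W.hom).obj F) q)) :
    Function.Bijective (fun x : Abelian.Ext.{u + 1} (freeOn W) F q => x.mapExactFunctor (EtCoh.pull g)) := by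
  haveI : AlgebraicGeometry.Etale W.hom := W.prop
  let f' : pullback W.hom g ⟶ W.left := pullback.fst W.hom g
  let j' : pullback W.hom g ⟶ X := pullback.snd W.hom g
  haveI : AlgebraicGeometry.Etale j' := MorphismProperty.pullback_snd _ _ inferInstance
  haveI hall : ∀ {A B : Scheme.{u}} (f : A ⟶ B), PreservesFiniteLimits (EtCoh.pull f) :=
    fun f => pull_preservesFiniteLimits f
  let w : pullback W.hom g ⟶ Y := f' ≫ W.hom
  let G := (EtCoh.pull g).obj F
  haveI : IsIso (𝟙 W.left) := IsIso.id _
  have hL : Function.Bijective (ptMap W.hom W (𝟙 W.left) (Category.id_comp _) F q) :=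
    ptMap_bijective W.hom W (𝟙 W.left) (Category.id_comp _) F q
  have hR : Function.Bijective (EtMVLib.hp (EtCoh.pull j') (bcGen j' g W (𝟙 ((EtCoh.bc g).obj W).left)
      (Category.id_comp _)) G q) :=
    @hp_bcGen_bijective _ _ _ j' g inferInstance inferInstance W (𝟙 ((EtCoh.bc g).obj W).left) (IsIso.id _)
      (Category.id_comp _) G q
  have hw' : j' ≫ g = w := pullback.condition.symm
  have hfun1 : (ptMap w W f' rfl F q : _ → _) = (fun z => z.comp (Abelian.Ext.mk₀
      ((θPull f' W.hom w rfl).hom.app F)) (add_zero q)) ∘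
        EtCore.Hpull f' ((EtCoh.pull W.hom).obj F) q ∘ ptMap W.hom W (𝟙 W.left) (Category.id_comp _) F q :=
    funext fun x => ptMap_Hpull f' W.hom w rfl W (𝟙 W.left) (Category.id_comp _) f'
      (Category.comp_id f').symm rfl F q x
  have hfun2 : (ptMap w W f' rfl F q : _ → _) = ((fun z => z.comp (Abelian.Ext.mk₀
      ((θPull j' g w hw').hom.app F)) (add_zero q)) ∘
        EtMVLib.hp (EtCoh.pull j') (bcGen j' g W (𝟙 ((EtCoh.bc g).obj W).left) (Category.id_comp _)) G q) ∘
        fun x => x.mapExactFunctor (EtCoh.pull g) :=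
    funext fun x => ptMap_bc j' g w hw' W (𝟙 ((EtCoh.bc g).obj W).left) (Category.id_comp _) f'
      (Category.id_comp f').symm rfl F q x
  haveI : IsIso ((θPull f' W.hom w rfl).hom.app F) := ((θPull f' W.hom w rfl).app F).isIso_hom
  haveI : IsIso ((θPull j' g w hw').hom.app F) := ((θPull j' g w hw').app F).isIso_hom
  have hb' : Function.Bijective (ptMap w W f' rfl F q) := by
    rw [hfun1]
    exact (postcomp_bijective _ _).comp (hb.comp hL)
  rw [hfun2] at hb'
  exact (Function.Bijective.of_comp_iff' ((postcomp_bijective _ _).comp hR) _).1 hb'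

variable (P : Y.Etale → Prop) (hP : ∀ (U : Y.Etale) (x : U.left), ∃ (W : Y.Etale) (f : W ⟶ U) (w : W.left),
    P W ∧ f.left.base w = x)

include hP in
/-- unit and higher direct images from the comparison on a cofinal family -/
theorem good_of_cofinal (hb : ∀ W : Y.Etale, P W → ∀ q ≤ n,
      ∀ [PreservesFiniteLimits (EtCoh.pull (pullback.fst W.hom g))],
        Function.Bijective (EtCore.Hpull (pullback.fst W.hom g) ((EtCoh.pull W.hom).obj F) q)) :
    IsIso ((EtCoh.pullPushAdj g).unit.app F) ∧
      ∀ q : ℕ, 1 ≤ q → q ≤ n → IsZero ((EtCoh.Rpush g q).obj ((EtCoh.pull g).obj F)) := by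
  haveI := pull_preservesFiniteLimits g
  haveI : PreservesLimitsOfSize.{0, 0} (EtCoh.push g) := (EtCoh.pullPushAdj g).rightAdjoint_preservesLimits
  haveI : PreservesFiniteLimits (EtCoh.push g) := PreservesLimitsOfSize.preservesFiniteLimits _
  let G := (EtCoh.pull g).obj F
  let η := (EtCoh.pullPushAdj g).unit.app F
  have hMb : ∀ W, P W → ∀ q, q ≤ n →
      Function.Bijective (fun x : Abelian.Ext.{u + 1} (freeOn W) F q => x.mapExactFunctor (EtCoh.pull g)) := by
    intro W hW q hq
    haveI := pull_preservesFiniteLimits (pullback.fst W.hom g)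
    exact bijective_free g F W q (hb W hW q hq)
  have hedge : ∀ (W : Y.Etale) (q : ℕ) (x : Abelian.Ext.{u + 1} (freeOn W) F q),
      edge (EtCoh.pullPushAdj g) (freeOn W) G q (x.comp (Abelian.Ext.mk₀ η) (add_zero q)) =
        x.mapExactFunctor (EtCoh.pull g) := by
    intro W q x
    rw [edge_apply, Abelian.Ext.mapExactFunctor_comp, Abelian.Ext.mapExactFunctor_mk₀,
      Abelian.Ext.comp_assoc_of_third_deg_zero, Abelian.Ext.mk₀_comp_mk₀]
    erw [Adjunction.left_triangle_components]
    exact Abelian.Ext.comp_mk₀_id _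
  have hsec : ∀ W, P W → Function.Bijective (η.hom.app (op W)) := by
    intro W hW
    have h0 : Function.Bijective (fun φ : freeOn W ⟶ F => φ ≫ η) := by
      have hb := hMb W hW 0 (Nat.zero_le n)
      have hc := (edge_zero_bijective (EtCoh.pullPushAdj g) (freeOn W) G)
      have hfun : (fun x : Abelian.Ext.{u + 1} (freeOn W) F 0 => x.mapExactFunctor (EtCoh.pull g)) =
          edge (EtCoh.pullPushAdj g) (freeOn W) G 0 ∘
            (fun x => x.comp (Abelian.Ext.mk₀ η) (add_zero 0)) := funext fun x => (hedge W 0 x).symm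
      rw [hfun] at hb
      have hp := (Function.Bijective.of_comp_iff' hc _).1 hb
      have hfun' : (fun x : Abelian.Ext.{u + 1} (freeOn W) F 0 => x.comp (Abelian.Ext.mk₀ η) (add_zero 0)) ∘
          (fun φ => Abelian.Ext.mk₀ φ) = (fun ψ => Abelian.Ext.mk₀ ψ) ∘ (fun φ : freeOn W ⟶ F => φ ≫ η) :=
        funext fun φ => Abelian.Ext.mk₀_comp_mk₀ φ η
      have := hp.comp (Abelian.Ext.mk₀_bijective (freeOn W) F)
      rw [hfun'] at this
      exact (Function.Bijective.of_comp_iff' (Abelian.Ext.mk₀_bijective _ _) _).1 this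
    have hfun : η.hom.app (op W) ∘ (freeVal (W := W) (G := F)) =
        (freeVal (W := W) (G := (EtCoh.push g).obj G)) ∘ (fun φ => φ ≫ η) :=
      funext fun φ => (freeVal_comp φ η).symm
    have h2 := (freeVal_bijective W ((EtCoh.push g).obj G)).comp h0
    exact (Function.Bijective.of_comp_iff _ (freeVal_bijective W F)).1 (by rw [hfun]; exact h2)
  have epi_of : ∀ {M N : EtCoh.Ab Y} (a : M ⟶ N),
      (∀ W, P W → Function.Surjective (a.hom.app (op W))) → Epi a := by
    intro M N a ha
    refine (Sheaf.isLocallySurjective_iff_epi' AddCommGrpCat.{u + 1} a).1 ⟨fun {U} s => ?_⟩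
    refine (mem_topology_iff _).2 fun x => ?_
    obtain ⟨W, f, w, hW, hw⟩ := hP U x
    exact ⟨W, f, w, ha W hW _, hw⟩
  haveI hepi : Epi η := epi_of η fun W hW => (hsec W hW).2
  haveI hmono : Mono η := by
    haveI : ∀ U, Mono (η.hom.app U) := fun U => (AddCommGrpCat.mono_iff_injective _).2 fun s t hst => by
      refine (((isSheaf_iff_isSheaf_of_type _ _).1 ((sheafCompose Y.smallEtaleTopology
        (forget AddCommGrpCat.{u + 1})).obj F).property).isSeparated
        (Presheaf.equalizerSieve (F := F.obj) s t) ((mem_topology_iff _).2 fun x => ?_)).ext fun V f hf => hf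
      obtain ⟨W, f, w, hW, hw⟩ := hP U.unop x
      refine ⟨W, f, w, (hsec W hW).1 ?_, hw⟩
      exact (NatTrans.naturality_apply η.hom f.op s).trans
        ((congrArg _ hst).trans (NatTrans.naturality_apply η.hom f.op t).symm)
    haveI : Mono η.hom := NatTrans.mono_of_mono_app _
    exact (sheafToPresheaf _ _).mono_of_mono_map ‹Mono η.hom›
  haveI hiso : IsIso η := isIso_of_mono_of_epi η
  refine ⟨hiso, vanish_of_edge_bijective (EtCoh.pullPushAdj g) (fun W : {W : Y.Etale // P W} => freeOn W.1)
    (fun {M N} a ha => epi_of a fun W hW s => ?_) n G fun W q hq => ?_⟩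
  · obtain ⟨φ, hφ⟩ := exists_free_hom (W := W) s
    obtain ⟨b, hb'⟩ := ha ⟨W, hW⟩ φ
    exact ⟨freeVal b, by rw [← freeVal_comp, hb', hφ]⟩
  · have hpost : Function.Bijective (fun x : Abelian.Ext.{u + 1} (freeOn W.1) F q =>
        x.comp (Abelian.Ext.mk₀ η) (add_zero q)) :=
      postcomp_bijective _ _
    have hfun : (fun x : Abelian.Ext.{u + 1} (freeOn W.1) F q => x.mapExactFunctor (EtCoh.pull g)) =
        edge (EtCoh.pullPushAdj g) (freeOn W.1) G q ∘
          (fun x => x.comp (Abelian.Ext.mk₀ η) (add_zero q)) := funext fun x => (hedge W.1 q x).symm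
    have hb := hMb W.1 W.2 q hq
    rw [hfun] at hb
    exact (Function.Bijective.of_comp_iff _ hpost).1 hb

/-- the comparison from unit and higher direct images -/
theorem Hpull_of_good [PreservesFiniteLimits (EtCoh.pull g)] (hη : IsIso ((EtCoh.pullPushAdj g).unit.app F))
    (hv : ∀ q : ℕ, 1 ≤ q → q ≤ n → IsZero ((EtCoh.Rpush g q).obj ((EtCoh.pull g).obj F))) :
    (∀ q, q ≤ n → Function.Bijective (EtCore.Hpull g F q)) ∧ Function.Injective (EtCore.Hpull g F (n + 1)) := by
  haveI : PreservesLimitsOfSize.{0, 0} (EtCoh.push g) := (EtCoh.pullPushAdj g).rightAdjoint_preservesLimits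
  haveI : PreservesFiniteLimits (EtCoh.push g) := PreservesLimitsOfSize.preservesFiniteLimits _
  let η := (EtCoh.pullPushAdj g).unit.app F
  haveI : IsIso η := hη
  obtain ⟨hb, hi⟩ := edge_bijective_of_vanish (EtCoh.pullPushAdj g) n ((EtCoh.pull g).obj F) hv (EtCoh.const Y ℤ)
  have hfun : ∀ q, (EtCore.Hpull g F q : _ → _) =
      ((fun z => (Abelian.Ext.mk₀ (EtCore.pullConst g ℤ).inv).comp z (zero_add q)) ∘
        edge (EtCoh.pullPushAdj g) (EtCoh.const Y ℤ) ((EtCoh.pull g).obj F) q) ∘
          fun x => x.comp (Abelian.Ext.mk₀ η) (add_zero q) := fun q => funext fun x => by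
    show (Abelian.Ext.mk₀ (EtCore.pullConst g ℤ).inv).comp (x.mapExactFunctor (EtCoh.pull g)) (zero_add q) =
      (Abelian.Ext.mk₀ (EtCore.pullConst g ℤ).inv).comp (edge _ _ _ q _) (zero_add q)
    rw [edge_apply, Abelian.Ext.mapExactFunctor_comp, Abelian.Ext.mapExactFunctor_mk₀,
      Abelian.Ext.comp_assoc_of_third_deg_zero, Abelian.Ext.mk₀_comp_mk₀]
    erw [Adjunction.left_triangle_components]
    rw [Abelian.Ext.comp_mk₀_id]
  have hpre : ∀ q, Function.Bijective (fun z : Abelian.Ext.{u + 1} ((EtCoh.pull g).obj (EtCoh.const Y ℤ))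
      ((EtCoh.pull g).obj F) q => (Abelian.Ext.mk₀ (EtCore.pullConst g ℤ).inv).comp z (zero_add q)) :=
    fun q => precomp_bijective _ _
  have hpost : ∀ q, Function.Bijective (fun x : EtCoh.H Y F q => x.comp (Abelian.Ext.mk₀ η) (add_zero q)) :=
    fun q => postcomp_bijective _ _
  refine ⟨fun q hq => ?_, ?_⟩
  · rw [hfun q]
    exact ((hpre q).comp (hb q hq)).comp (hpost q)
  · rw [hfun (n + 1)]
    exact ((hpre _).1.comp hi).comp (hpost _).1

end Groth.Agent.AcycConst
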