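import Groth.Agent.AcycConst.Crit
import Groth.Agent.MorLib.ElemEtaleFinite
import Groth.Agent.FibreAcyc.Main
import Groth.Agent.EtBC.CompNBase
import Groth.Agent.EtFound.AcyclicComp
import Groth.Agent.CohCrit13.Main

/-!
# Acyclic morphisms after quasi-finite base change, for sheaves killed by an integer
-/

set_option autoImplicit false
set_option linter.style.haveILetI false
universe u

open CategoryTheory CategoryTheory.Limits AlgebraicGeometry Opposite

namespace Groth.Agent.AcycConst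

open Groth.Agent.EtLimit Groth.Agent.EtFound

set_option backward.isDefEq.respectTransparency.types false
set_option maxHeartbeats 1000000

variable {X Y Y' : Scheme.{u}} (g : X ⟶ Y) (i : Y' ⟶ Y)

/-- finite over an affine étale scheme of the base -/
def FinOver (W : Y'.Etale) : Prop :=
  IsAffine W.left ∧ ∃ (V : Y.Etale) (p : W.left ⟶ V.left), IsAffine V.left ∧ IsFinite p ∧ p ≫ V.hom = W.hom ≫ i

/-- such neighbourhoods are cofinal -/
theorem exists_finOver [LocallyQuasiFinite i] [LocallyOfFiniteType i] (U : Y'.Etale) (x : U.left) :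
    ∃ (W : Y'.Etale) (f : W ⟶ U) (w : W.left), FinOver i W ∧ f.left.base w = x := by
  haveI : AlgebraicGeometry.Etale U.hom := U.prop
  obtain ⟨O, hO, hxO, -⟩ := exists_isAffineOpen_mem_and_subset (x := x) (U := (⊤ : U.left.Opens)) trivial
  haveI hlqf : ∀ {A B : Scheme.{u}} (f : A ⟶ B) [AlgebraicGeometry.Etale f], LocallyQuasiFinite f :=
    fun f => MorLib.WT.locallyQuasiFinite_of_etale f
  let T : Scheme.{u} := ↑O
  let a : T ⟶ Y' := O.ι ≫ U.hom
  haveI : AlgebraicGeometry.Etale a := inferInstance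
  haveI : LocallyQuasiFinite a := hlqf a
  let c : T ⟶ Y := a ≫ i
  haveI : LocallyQuasiFinite c := inferInstance
  let x₀ : T := ⟨x, hxO⟩
  obtain ⟨E, e, u₀, he, Vop, v, hv, hfin, hvu, -, hvx, -⟩ :=
    MorLib.EEF.exists_elem_nbhd c x₀ (c.quasiFiniteAt x₀)
  haveI : AlgebraicGeometry.Etale e := he.1
  obtain ⟨E', hE', huE, -⟩ := exists_isAffineOpen_mem_and_subset (x := u₀) (U := (⊤ : E.Opens)) trivial
  let p₀ : ↑Vop ⟶ E := Vop.ι ≫ pullback.snd c e
  haveI : IsFinite p₀ := hfin
  haveI : IsAffine ↑E' := hE'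
  let p := p₀ ∣_ E'
  haveI : IsFinite p := IsZariskiLocalAtTarget.restrict (P := @IsFinite) ‹_› E'
  haveI : IsAffine ↑(p₀ ⁻¹ᵁ E') := isAffine_of_isAffineHom p
  let b : ↑(p₀ ⁻¹ᵁ E') ⟶ T := (p₀ ⁻¹ᵁ E').ι ≫ Vop.ι ≫ pullback.fst c e
  haveI : AlgebraicGeometry.Etale (pullback.fst c e) := MorphismProperty.pullback_fst _ _ inferInstance
  haveI : AlgebraicGeometry.Etale b := inferInstance
  let W : Y'.Etale := Scheme.Etale.mk (b ≫ a)
  let V : Y.Etale := Scheme.Etale.mk (E'.ι ≫ e)
  let f : W ⟶ U := MorphismProperty.Over.homMk (b ≫ O.ι) (Category.assoc _ _ _)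
  have hmem : (⟨v, hv⟩ : ↑Vop) ∈ p₀ ⁻¹ᵁ E' := by
    show (Vop.ι ≫ pullback.snd c e).base ⟨v, hv⟩ ∈ E'
    rw [Scheme.Hom.comp_apply]
    show pullback.snd c e v ∈ E'
    rw [hvu]
    exact huE
  refine ⟨W, f, ⟨⟨v, hv⟩, hmem⟩, ⟨‹_›, V, p, hE', ‹_›, ?_⟩, ?_⟩
  · show p ≫ E'.ι ≫ e = (((p₀ ⁻¹ᵁ E').ι ≫ Vop.ι ≫ pullback.fst c e) ≫ a) ≫ i
    rw [← Category.assoc, morphismRestrict_ι]
    simp only [p₀, Category.assoc]
    rw [← pullback.condition]
  · show ((((p₀ ⁻¹ᵁ E').ι ≫ Vop.ι ≫ pullback.fst c e)) ≫ O.ι).base ⟨⟨v, hv⟩, hmem⟩ = x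
    simp only [Scheme.Hom.comp_apply]
    show O.ι (pullback.fst c e v) = x
    rw [hvx]
    rfl

variable [QuasiCompact g] [QuasiSeparated g] (L : Set ℕ) (n : ℕ) (hg : EtAcyc.IsAcyclicN g L n)

include hg in
/-- the comparison after quasi-finite base change -/
theorem Hpull_baseChange [LocallyQuasiFinite i] [LocallyOfFiniteType i] (F : EtCoh.Ab Y')
    (hF : EtAcyc.IsLTorsion L F) [PreservesFiniteLimits (EtCoh.pull (pullback.snd g i))] :
    (∀ q, q ≤ n → Function.Bijective (EtCore.Hpull (pullback.snd g i) F q)) ∧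
      Function.Injective (EtCore.Hpull (pullback.snd g i) F (n + 1)) := by
  obtain ⟨hη, hv⟩ := good_of_cofinal (pullback.snd g i) n F (FinOver i) (exists_finOver i) (by
    rintro W ⟨hWaff, V, p, hVaff, hp, hpV⟩ q hq _
    haveI : IsAffine W.left := hWaff
    haveI : IsAffine V.left := hVaff
    let g' := pullback.snd g i
    let hb := pullback.fst W.hom g'
    let pY : pullback W.hom g' ⟶ pullback V.hom g :=
      pullback.lift (hb ≫ p) (pullback.snd W.hom g' ≫ pullback.fst g i) (by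
        rw [Category.assoc, hpV, Category.assoc, pullback.condition, ← Category.assoc, pullback.condition,
          Category.assoc])
    have sq : IsPullback hb pY p (EtAcyc.prj g V) := by
      refine IsPullback.of_bot (h₃₁ := g) (v₂₂ := V.hom) (v₂₁ := pullback.snd V.hom g) ?_
        (pullback.lift_fst _ _ _).symm (IsPullback.of_hasPullback V.hom g)
      rw [hpV, pullback.lift_snd]
      exact (IsPullback.of_hasPullback W.hom g').paste_vert (IsPullback.of_hasPullback g i).flip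
    haveI := pull_preservesFiniteLimits (EtAcyc.prj g V)
    haveI : IsIntegralHom p := inferInstance
    haveI : CompactSpace ↥((𝟭 Scheme).obj W.left) := inferInstanceAs (CompactSpace ↥W.left)
    haveI : QuasiSeparatedSpace ↥((𝟭 Scheme).obj W.left) := inferInstanceAs (QuasiSeparatedSpace ↥W.left)
    exact (EtBC.compN_baseChange hb (EtAcyc.prj g V) p pY sq.w L n (hg V)
      (fun Fb _ j _ => FibreAcyc.isIso_bcQ_integral sq Fb j) _ (isLTorsion_pull W.hom L hF)).1 q hq)
  exact Hpull_of_good (pullback.snd g i) n F hη hv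

end Groth.Agent.AcycConst
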